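import Cfsg.Agent.Lib.RCl.Sol
import Cfsg.Agent.Lib.Coprime.Nilpotent
import Cfsg.Agent.Lib.Hall.Solvable
import Cfsg.Agent.Lib.BG.T01_Coprime
import Cfsg.Agent.Lib.FGS.ClassSize

/-! Groups whose prime graph on the real class sizes is disconnected. -/

set_option autoImplicit false

universe u

namespace Cfsg.Lib.RCl

open Subgroup Cfsg Cfsg.Lib Cfsg.Lib.BG Cfsg.Lib.Transfer

/-- The subgroup generated by the 2-elements. -/
abbrev K2 (G : Type*) [Group G] : Subgroup G := closure {g : G | ∃ k : ℕ, orderOf g = 2 ^ k}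

instance K2_normal (G : Type*) [Group G] : (K2 G).Normal := ⟨fun x hx g => by
  have : g ⋆ K2 G ≤ K2 G := by
    rw [K2, MonoidHom.map_closure]
    refine closure_mono ?_
    rintro _ ⟨y, ⟨k, hk⟩, rfl⟩
    exact ⟨k, hk ▸ MulEquiv.orderOf_eq (MulAut.conj g) y⟩
  exact this (conj_mem_conj.2 hx)⟩

theorem mem_K2 {G : Type*} [Group G] {x : G} {k : ℕ} (h : x ^ 2 ^ k = 1) : x ∈ K2 G := by
  obtain ⟨j, -, hj⟩ := (Nat.dvd_prime_pow Nat.prime_two).1 (orderOf_dvd_of_pow_eq_one h)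
  exact subset_closure ⟨j, hj⟩

theorem K2_pi {q : ℕ} [hq : Fact q.Prime] (h2 : q ≠ 2) (n : ℕ) : ∀ (G : Type u) [Group G] [Finite G],
    Nat.card G = n → Group.IsSolvable G →
    (∀ y : G, Odd (orderOf y) → IsConj y y⁻¹ → ¬ q ∣ orderOf y) → PiGrp {q}ᶜ (K2 G) := by
  induction n using Nat.strong_induction_on with
  | _ n ih =>
  intro G _ _ hn hs h
  by_cases h1 : (⊤ : Subgroup G) ≤ ⊥
  · exact PiGrp.bot.of_le (le_top.trans h1)
  obtain ⟨p, M, hp, _, hlt, -, -, -, k, hk⟩ := Cfsg.Lib.Hall.exists_normal_pgroup_mod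
    (K := (⊤ : Subgroup G)) (N := ⊥) inferInstance h1
  haveI := Fact.mk hp
  rw [relIndex_bot_left] at hk
  have hM : IsPGroup p M := IsPGroup.of_card hk
  have hf := QuotientGroup.mk'_surjective M
  have hker := QuotientGroup.ker_mk' M
  have hq' := ih _ (by
      rw [← hn, card_eq_card_quotient_mul_card_subgroup M]
      exact lt_mul_of_one_lt_right Nat.card_pos ((one_lt_card_iff_ne_bot M).2 hlt.ne')) (G ⧸ M) rfl
    inferInstance fun y ho hc hd => by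
      obtain ⟨x, rfl, h3, h4⟩ : ∃ x : G, QuotientGroup.mk' M x = y ∧ Odd (orderOf x) ∧ IsConj x x⁻¹ := by
        by_cases e : p = 2
        · subst e; exact lift_two _ hf (by rwa [hker]) ho hc
        · exact lift_odd _ hf (by rw [hker]; exact p'_of_pgroup hM e) ho hc
      exact h x h3 h4 (hd.trans (orderOf_map_dvd _ x))
  have hmap : PiGrp {q}ᶜ ((K2 G).map (QuotientGroup.mk' M)) := hq'.of_le (by
    rw [K2, MonoidHom.map_closure, closure_le]
    rintro _ ⟨y, ⟨j, hj⟩, rfl⟩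
    exact mem_K2 (k := j) (by rw [← map_pow, ← hj, pow_orderOf_eq_one, map_one]))
  by_cases e : p = q
  swap
  · exact hmap.of_map (PiGrp.of_le (by rw [hker]; exact p'_of_pgroup hM e) inf_le_right)
  subst e
  have hc : ∀ (j : ℕ) (s : G), s ^ 2 ^ j = 1 → s ∈ 𝐂(M) := by
    intro j
    induction j with
    | zero => intro s hs; rw [pow_zero, pow_one] at hs; rw [hs]; exact one_mem _
    | succ j ihj =>
      intro s hs m hm
      have e1 := ihj (s ^ 2) (by rw [← pow_mul, ← pow_succ', hs]) m hm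
      have hx : m⁻¹ * (s * m * s⁻¹) ∈ M := mul_mem (inv_mem hm) (‹M.Normal›.conj_mem m hm s)
      obtain ⟨i, hi⟩ := IsPGroup.iff_orderOf.1 hM ⟨_, hx⟩
      rw [← orderOf_coe] at hi
      have := h _ (hi ▸ (hp.odd_of_ne_two h2).pow) (isConj_iff.2 ⟨s, by
        calc _ = s * m⁻¹ * s⁻¹ * (s ^ 2 * m) * s⁻¹ * s⁻¹ := by rw [sq]; group
          _ = _ := by rw [← e1, sq]; group⟩)
      rcases i with _ | i
      · rw [pow_zero, orderOf_eq_one_iff, inv_mul_eq_one, eq_mul_inv_iff_mul_eq] at hi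
        exact hi
      · exact absurd (hi ▸ dvd_pow_self p i.succ_ne_zero) this
  have hKM : K2 G ≤ 𝐂(M) := (closure_le _).2 fun s ⟨j, hj⟩ => hc j s (by rw [← hj, pow_orderOf_eq_one])
  have hH : Hall {p} (M ⊓ K2 G) (K2 G) := Hall.mk' inf_le_right
    ((PiGrp.p_iff.2 hM).of_le inf_le_left) (by
      rw [inf_relIndex_right, ← hker, relIndex_ker]; exact hmap)
  obtain ⟨L, hL, hL'⟩ := hH.exists_compl (norm_inf le_normalizer_of_normal (le_norm _))
  have hLn : K2 G ≤ 𝐍(L) := fun x hx => by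
    obtain ⟨a, ha, b, hb, rfl⟩ := hL.mem hx
    exact mul_mem (norm_of_cent (cent_mono (cent_symm hKM) inf_le_left hL.right_le) ha) (le_norm L hb)
  refine hL'.pi.of_le ((closure_le _).2 fun s ⟨j, hj⟩ => hL'.mem_of_normal hLn (subset_closure ⟨j, hj⟩) ?_)
  rw [PiElt, hj]
  exact PiNat.prime_pow Nat.prime_two (Ne.symm h2) j

variable {G : Type*} [Group G] [Finite G] {σ : Set ℕ} {t : G}

theorem sq_of_odd {x : G} (hx : IsConj x x⁻¹) (ho : ¬ 2 ∣ (𝐂[x]).index) : x * x = 1 := by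
  rw [← sq]; exact (Agent.S3863.result x hx).2.1 (Inv.odd_card_iff_not_two_dvd.2 ho)

omit [Finite G] in
theorem eq_one_of_sq {x : G} (ho : Odd (orderOf x)) (h : x * x = 1) : x = 1 :=
  Agent.S3861.eq_one_of_odd (k := 1) ho (by rw [pow_one, sq, h])

/-- Each real class size is a `σ`- or a `σ'`-number. -/
def Sp (G : Type*) [Group G] (σ : Set ℕ) : Prop :=
  ∀ x : G, IsConj x x⁻¹ → PiNat σ (𝐂[x]).index ∨ PiNat σᶜ (𝐂[x]).index

/-- The asymmetric form of the hypothesis. -/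
structure Hy (σ : Set ℕ) (t : G) : Prop where
  two : 2 ∉ σ
  sp : Sp G σ
  sq : t * t = 1
  ne : (𝐂[t]).index ≠ 1
  pi : PiNat σ (𝐂[t]).index

namespace Hy

omit [Finite G] in
theorem conj (h : Hy σ t) (g : G) : Hy σ (g * t * g⁻¹) :=
  ⟨h.two, h.sp, by
    calc _ = g * (t * t) * g⁻¹ := by group
      _ = 1 := by rw [h.sq]; group,
    by rw [← conj_cent1, index_conj]; exact h.ne, by rw [← conj_cent1, index_conj]; exact h.pi⟩

theorem pi' (h : Hy σ t) {x : G} (hx : IsConj x x⁻¹) (h2 : x * x ≠ 1) : PiNat σᶜ (𝐂[x]).index :=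
  (h.sp x hx).resolve_left fun e => h2 (sq_of_odd hx (e.not_dvd' Nat.prime_two h.two))

theorem no_real (h : Hy σ t) {w s : G} (hw : w ∈ 𝐂[t]) (hs : s ∈ 𝐂[t]) (ho : Odd (orderOf w))
    (hi : s * w * s⁻¹ = w⁻¹) : w = 1 := by
  by_contra h1
  have e := mem_cent1.1 hw
  have et : t⁻¹ = t := inv_eq_of_mul_eq_one_right h.sq
  have h2 := h.pi' (x := t * w) (isConj_iff.2 ⟨s, by
      calc _ = (s * t) * s⁻¹ * (s * w * s⁻¹) := by group
        _ = t * w⁻¹ := by rw [mem_cent1.1 hs, hi]; group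
        _ = _ := by rw [← e, mul_inv_rev, et]⟩) fun e2 => h1 (eq_one_of_sq ho (by
      calc w * w = w * (t * t) * w := by rw [h.sq, mul_one]
        _ = _ := by rw [← mul_assoc, e, mul_assoc, e2]))
  have h3 : 𝐂[t * w] ≤ 𝐂[t] := by
    have := cent1_le_cent1_pow (t * w) (orderOf w)
    obtain ⟨k, hk⟩ := ho
    rwa [(show Commute t w from e.symm).mul_pow, pow_orderOf_eq_one, mul_one, hk, pow_succ, pow_mul,
      pow_two, h.sq, one_pow, one_mul] at this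
  exact h.ne (h.pi.eq_one (h2.of_dvd (index_dvd_of_le h3)))

theorem fact (h : Hy σ t) {y : G} (h1 : y ≠ 1) (ho : Odd (orderOf y)) (hc : IsConj y y⁻¹) (g : G) :
    ∃ n ∈ 𝐂[t], ∃ c ∈ 𝐂[y], g = n * c :=
  Coprime.exists_mul_of_coprime_index (h.pi.coprime (h.pi' hc fun e => h1 (eq_one_of_sq ho e))) g

theorem syl (h : Hy σ t) {r : ℕ} [hr : Fact r.Prime] (hσ : r ∉ σ) : ∃ R, Syl r R ⊤ ∧ R ≤ 𝐂[t] := by
  obtain ⟨R, hR⟩ := Syl.exists r 𝐂[t]
  refine ⟨R, hR.trans_idx le_top ?_, hR.le⟩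
  rw [relIndex_top_right]
  exact PiNat.p'_iff.2 (h.pi.not_dvd' hr.out hσ)

theorem solvable (h : Hy σ t) : Group.IsSolvable G := by
  obtain ⟨T, hT, hle⟩ := h.syl h.two
  obtain ⟨S, hS⟩ := Syl.iff_sylow.1 (hT.of_le hle le_top)
  haveI := (Agent.S3861.result S).1 fun x h1 ho hc => by
    obtain ⟨s, hs⟩ := isConj_iff.1 hc
    exact h1 (Subtype.ext (h.no_real x.2 s.2 (by rwa [orderOf_coe]) (congrArg Subtype.val hs)))
  have hn : 𝐂[t] ≤ 𝐍(T) := hS ▸ (Nml.of_normal _ (S : Subgroup 𝐂[t])).norm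
  refine solvable_of_HT _ G T rfl (fun y h1 ho hc g => ?_) hT
  obtain ⟨n, hn', c, hc', e⟩ := h.fact h1 ho hc g
  exact ⟨n, hn hn', c, hc', e⟩

theorem piElt (h : Hy σ t) {y : G} (ho : Odd (orderOf y)) (hc : IsConj y y⁻¹) : PiElt σ y := by
  intro r hr hd
  by_contra hσ
  haveI := Fact.mk hr
  obtain ⟨s, ⟨j, hj⟩, hs⟩ := (Agent.S3863.result y hc).1
  obtain ⟨T, hT, hle⟩ := h.syl h.two
  obtain ⟨g, -, hg⟩ := hT.exists_le_conj (pgroup_zpowers (x := s) (k := j)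
    (by rw [← hj, pow_orderOf_eq_one])) le_top
  have h' := h.conj g
  have hs' : s ∈ 𝐂[g * t * g⁻¹] := by
    rw [← conj_cent1]; exact conj_mono g hle (hg (mem_zpowers s))
  set x := y ^ (orderOf y / r) with hx
  have hxo : orderOf x = r := orderOf_pow_orderOf_div (orderOf_pos y).ne' hd
  have hx1 : x ≠ 1 := fun e => hr.one_lt.ne' (by rw [← hxo, e, orderOf_one])
  have hxi : s * x * s⁻¹ = x⁻¹ := inv_pow_conj hs _
  have hxodd : Odd (orderOf x) := ho.of_dvd_nat (hxo ▸ hd)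
  obtain ⟨R, hR, hRle⟩ := h'.syl hσ
  obtain ⟨u, -, hu⟩ := hR.exists_conj_le (Q := zpowers x)
    (IsPGroup.of_card (n := 1) (by rw [Nat.card_zpowers, hxo, pow_one])) le_top
  obtain ⟨n, hn, c, hc', rfl⟩ := h'.fact hx1 hxodd (isConj_iff.2 ⟨s, hxi⟩) u
  have := hRle (hu (conj_mem_conj.2 (mem_zpowers x)))
  rw [show n * c * x * (n * c)⁻¹ = n * (c * x * c⁻¹) * n⁻¹ by group, mem_cent1.1 hc',
    mul_inv_cancel_right, mul_mem_cancel_right (inv_mem hn), mul_mem_cancel_left hn] at this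
  exact hx1 (h'.no_real this hs' hxodd hxi)

theorem K2_idx (h : Hy σ t) (x : K2 G) (hx : IsConj x x⁻¹) :
    Odd (𝐂[x]).index ∨ ∃ j : ℕ, (𝐂[x]).index = 2 ^ j := by
  have e : (𝐂[x]).index = (𝐂[(x : G)]).relIndex (K2 G) := by
    rw [relIndex]; congr 1; ext y
    rw [mem_subgroupOf, mem_cent1, mem_cent1, Subtype.ext_iff]; rfl
  have hd : (𝐂[x]).index ∣ (𝐂[(x : G)]).index := e ▸ FGS.relIndex_dvd_index_of_normal' _ _
  rcases h.sp x ((K2 G).subtype.map_isConj hx) with h1 | h1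
  · exact Or.inl (Inv.odd_card_iff_not_two_dvd.2 fun h2 => h1.not_dvd' Nat.prime_two h.two (h2.trans hd))
  · refine Or.inr ((PiNat.p_iff index_ne_zero_of_finite).1 fun q hq hqd => ?_)
    by_contra h2
    haveI := Fact.mk hq
    exact PiGrp.p'_iff.1 (K2_pi h2 _ G rfl h.solvable fun y ho hc hy =>
      h1 q hq (hqd.trans hd) (h.piElt ho hc q hq hy)) (hqd.trans (index_dvd_card _))

end Hy

/-- If all real class sizes are odd, the graph is connected. -/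
theorem not_all_odd (h : Sp G σ) (ho : ∀ x : G, IsConj x x⁻¹ → ¬ 2 ∣ (𝐂[x]).index) {a b : G}
    (ha : IsConj a a⁻¹) (ha1 : (𝐂[a]).index ≠ 1) (ha2 : PiNat σ (𝐂[a]).index)
    (hb : IsConj b b⁻¹) (hb1 : (𝐂[b]).index ≠ 1) (hb2 : PiNat σᶜ (𝐂[b]).index) : False := by
  obtain ⟨S⟩ : Nonempty (Sylow 2 G) := inferInstance
  haveI := (Agent.S3861.result S).1 fun x h1 hx hc => h1 (eq_one_of_sq hx (sq_of_odd hc (ho x hc)))
  have hS := Syl.of_sylow_top S
  have re : ∀ x : G, x * x = 1 → IsConj x x⁻¹ := fun x hx => by rw [inv_eq_of_mul_eq_one_right hx]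
  have hin : ∀ x : G, x * x = 1 → x ∈ 𝐙((S : Subgroup G)) := fun x hx => by
    refine mem_inf.2 ⟨hS.ge_of_norm_p' le_top (pgroup_zpowers (k := 1) (by rw [pow_one, sq, hx]))
      le_normalizer_of_normal (mem_zpowers x), le_cent1_iff.1 ?_⟩
    obtain ⟨R, hR⟩ := Syl.exists 2 𝐂[x]
    have hR' : Syl 2 R ⊤ := hR.trans_idx le_top (by
      rw [relIndex_top_right]; exact PiNat.p'_iff.2 (ho x (re x hx)))
    exact hR'.eq_of_le' hS (hS.ge_of_normal le_normalizer_of_normal le_top hR.pi) ▸ hR.le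
  let E : Subgroup G :=
    { carrier := {x | x * x = 1}
      one_mem' := mul_one 1
      mul_mem' := fun {x y} hx hy => by
        have e := (mem_inf.1 (hin x hx)).2 y (mem_inf.1 (hin y hy)).1
        change x * y * (x * y) = 1
        calc _ = x * (y * x) * y := by group
          _ = (x * x) * (y * y) := by rw [e]; group
          _ = 1 := by rw [hx, hy, one_mul]
      inv_mem' := fun {x} hx => by
        change x⁻¹ * x⁻¹ = 1
        rw [← mul_inv_rev, hx, inv_one] }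
  have hES : E ≤ 𝐙((S : Subgroup G)) := fun x hx => hin x hx
  haveI hEn : E.Normal := ⟨fun x hx g => by
    change g * x * g⁻¹ * (g * x * g⁻¹) = 1
    calc _ = g * (x * x) * g⁻¹ := by group
      _ = 1 := by rw [hx]; group⟩
  have hSC : (S : Subgroup G) ≤ 𝐂(E) := cent_symm (hES.trans inf_le_right)
  haveI hsol := solvable_of_HT _ G S rfl
    (fun x h1 hx hc => absurd (eq_one_of_sq hx (sq_of_odd hc (ho x hc))) h1) hS
  obtain ⟨p, M, hp, _, hlt, -, -, -, k, hk⟩ := Cfsg.Lib.Hall.exists_normal_pgroup_mod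
    (K := (⊤ : Subgroup G)) (N := 𝐂(E)) inferInstance fun e => ha1 (index_eq_one.2
      (top_le_iff.1 (e.trans (cent_le_cent1 (sq_of_odd ha (ho a ha))))))
  haveI := Fact.mk hp
  have hp2 : p ≠ 2 := by
    rintro rfl
    rcases k with _ | k
    · exact hlt.not_ge (relIndex_eq_one.1 hk)
    · exact S.not_dvd_index ((hk ▸ dvd_pow_self 2 k.succ_ne_zero).trans
        ((relIndex_dvd_index_of_le hlt.le).trans (index_dvd_of_le hSC)))
  obtain ⟨R, hR⟩ := Syl.exists p M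
  have hM : 𝐂(E) ⊔ R = M := hR.sup_eq hlt.le (hk ▸ PiNat.prime_pow hp (Set.mem_singleton p) k)
  have hfr := hR.frattini (M := ⊤) (Nml.top_iff.2 inferInstance)
  have hD := coprime_abelian_cent_dprod (A := R) (V := E) le_normalizer_of_normal
    (coprime_pgroups hR.pgroup (pgroup_of_le hS.pgroup (hES.trans inf_le_left)) hp2)
    (abelian_of_le (abelian_center _) hES)
  obtain ⟨v, hv, hv1⟩ := exists_ne_one (A := ⁅E, R⁆) fun e =>
    hlt.not_ge (hM ▸ sup_le le_rfl (comm_eq_bot_iff'.1 e))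
  have key : ∀ τ : Set ℕ, p ∈ τ → Sp G τ → ∀ a : G, IsConj a a⁻¹ → (𝐂[a]).index ≠ 1 →
      PiNat τᶜ (𝐂[a]).index → False := by
    intro τ hτ h a ha ha1 ha2
    have hc : ∀ x ∈ E, PiNat τᶜ (𝐂[x]).index → x ∈ 𝐂(R) := fun x hx h2 => by
      refine le_cent1_iff.1 (hR.le.trans (relIndex_eq_one.1 ?_))
      refine PiNat.eq_one (π := τ) ((PiNat.prime_pow hp hτ k).of_dvd ?_)
        (h2.of_dvd (FGS.relIndex_dvd_index_of_normal' _ _))
      exact hk ▸ relIndex_dvd_of_le_left _ (cent_le_cent1 hx)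
    have haE : a ∈ E := sq_of_odd ha (ho a ha)
    have haR := hc a haE ha2
    have hx : v * a ∈ E := mul_mem (hD.left_le hv) haE
    have bot : ∀ y ∈ ⁅E, R⁆, y ∈ 𝐂(R) → y = 1 := fun y h1 h2 => by
      have := mem_inf.2 ⟨h1, mem_inf.2 ⟨hD.left_le h1, h2⟩⟩
      rwa [hD.inf, mem_bot] at this
    have h3 := (h _ (re _ hx)).resolve_right fun e =>
      hv1 (bot v hv ((mul_mem_cancel_right haR).1 (hc _ hx e)))
    refine ha1 (PiNat.eq_one (h3.of_dvd (index_dvd_of_le fun g hg => ?_)) ha2)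
    have hg' : g ∈ 𝐂(E) ⊔ 𝐍(R) := by
      have := hfr.ge (mem_top g)
      rw [← hM, sup_assoc] at this
      exact sup_le_sup_left (sup_le (le_norm R) inf_le_right) _ this
    obtain ⟨c, hc', n, hn, rfl⟩ := (mem_sup_left_norm le_normalizer_of_normal).1 hg'
    rw [mul_mem_cancel_left (cent_le_cent1 hx hc')] at hg
    refine mul_mem (cent_le_cent1 haE hc') (mem_cent1.2 ?_)
    have hnN : zpowers n ≤ 𝐍(R) := zpowers_le.2 hn
    have e1 : v⁻¹ * (n * v * n⁻¹) = a * (n * a * n⁻¹)⁻¹ := by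
      calc _ = v⁻¹ * (n * (v * a)) * a⁻¹ * n⁻¹ := by group
        _ = _ := by rw [mem_cent1.1 hg]; group
    have := bot _ (mul_mem (inv_mem hv) (conj_mem_of_norm
      (norm_comm le_normalizer_of_normal hnN (mem_zpowers n)) hv))
      (e1 ▸ mul_mem haR (inv_mem (conj_mem_of_norm (norm_cent hnN (mem_zpowers n)) haR)))
    rw [e1, mul_inv_eq_one, eq_mul_inv_iff_mul_eq] at this
    exact this.symm
  by_cases hσ : p ∈ σ
  · exact key σ hσ h b hb hb1 hb2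
  · exact key σᶜ hσ (fun x hx => by rw [compl_compl]; exact (h x hx).symm) a ha ha1 (by rwa [compl_compl])

omit [Finite G] in
/-- From the symmetric hypothesis. -/
theorem Sp.of {π₁ π₂ : Set ℕ} (hd : Disjoint π₁ π₂)
    (hc : ∀ q : ℕ, q.Prime → (∃ n ∈ {n : ℕ | ∃ x : G, IsConj x x⁻¹ ∧ (𝐂[x]).index = n}, q ∣ n) →
      q ∈ π₁ ∨ q ∈ π₂)
    (hn : ∀ a ∈ π₁, ∀ b ∈ π₂, ∀ n ∈ {n : ℕ | ∃ x : G, IsConj x x⁻¹ ∧ (𝐂[x]).index = n},
      ¬ (a ∣ n ∧ b ∣ n)) : Sp G π₁ ∧ Sp G π₂ := by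
  have key : ∀ x : G, IsConj x x⁻¹ → PiNat π₁ (𝐂[x]).index ∨ PiNat π₂ (𝐂[x]).index := fun x hx => by
    by_contra h
    simp only [PiNat, not_or, not_forall] at h
    obtain ⟨⟨a, a1, a2, a3⟩, b, b1, b2, b3⟩ := h
    exact hn b ((hc b b1 ⟨_, ⟨x, hx, rfl⟩, b2⟩).resolve_right b3) a
      ((hc a a1 ⟨_, ⟨x, hx, rfl⟩, a2⟩).resolve_left a3) _ ⟨x, hx, rfl⟩ ⟨b2, a2⟩
  exact ⟨fun x hx => (key x hx).imp_right fun h => h.mono hd.subset_compl_left,
    fun x hx => (key x hx).symm.imp_right fun h => h.mono hd.subset_compl_right⟩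

theorem Sp.ex (h : Sp G σ) {q : ℕ} (hq : q ∈ σ) (h1 : q.Prime ∧
    ∃ n ∈ {n : ℕ | ∃ x : G, IsConj x x⁻¹ ∧ (𝐂[x]).index = n}, q ∣ n) :
    ∃ x : G, IsConj x x⁻¹ ∧ (𝐂[x]).index ≠ 1 ∧ PiNat σ (𝐂[x]).index := by
  obtain ⟨hp, _, ⟨x, hx, rfl⟩, hd⟩ := h1
  exact ⟨x, hx, fun e => hp.one_lt.ne' (Nat.dvd_one.1 (e ▸ hd)),
    (h x hx).resolve_right fun e => e q hp hd hq⟩

theorem exists_Hy {π₁ π₂ : Set ℕ} (h₁ : π₁.Nonempty) (h₂ : π₂.Nonempty) (hd : Disjoint π₁ π₂)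
    (hs : ∀ q ∈ π₁ ∪ π₂, q.Prime ∧
      ∃ n ∈ {n : ℕ | ∃ x : G, IsConj x x⁻¹ ∧ (𝐂[x]).index = n}, q ∣ n)
    (h : Sp G π₁ ∧ Sp G π₂) : ∃ (σ : Set ℕ) (t : G), Hy σ t := by
  obtain ⟨a, ha⟩ := h₁
  obtain ⟨b, hb⟩ := h₂
  by_cases e : 2 ∈ π₁
  · obtain ⟨x, h1, h2, h3⟩ := h.2.ex hb (hs b (Or.inr hb))
    have e' : 2 ∉ π₂ := Set.disjoint_left.1 hd e
    exact ⟨π₂, x, e', h.2, sq_of_odd h1 (h3.not_dvd' Nat.prime_two e'), h2, h3⟩
  · obtain ⟨x, h1, h2, h3⟩ := h.1.ex ha (hs a (Or.inl ha))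
    exact ⟨π₁, x, e, h.1, sq_of_odd h1 (h3.not_dvd' Nat.prime_two e), h2, h3⟩

end Cfsg.Lib.RCl
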