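import Cfsg.Agent.Lib.RCl.ThmA
import Cfsg.Agent.Lib.Coprime.FT
import Cfsg.Agent.S3861
import Cfsg.Agent.S3863

/-! Lifting real elements of odd order; solvability under `HT`. -/

set_option autoImplicit false

universe u

namespace Cfsg.Lib.RCl

open Subgroup Cfsg Cfsg.Lib Cfsg.Lib.BG Cfsg.Lib.Transfer

section
variable {G H : Type*} [Group G] [Finite G] [Group H]

theorem lift_two (f : G →* H) (hf : Function.Surjective f) (hk : IsPGroup 2 f.ker) {y : H}
    (ho : Odd (orderOf y)) (hc : IsConj y y⁻¹) : ∃ x : G, f x = y ∧ Odd (orderOf x) ∧ IsConj x x⁻¹ := by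
  obtain ⟨x₀, rfl⟩ := hf y
  obtain ⟨a, ha, x, -, ⟨k, hk'⟩, hx, rfl⟩ := exists_p_part_mul_p'_part (p := 2) x₀
  have hfa : f a = 1 := Agent.S3861.eq_one_of_odd (k := k)
    (ho.of_dvd_nat (orderOf_dvd_of_mem_zpowers (MonoidHom.map_zpowers f _ ▸ mem_map_of_mem f ha)))
    (by rw [← map_pow, hk', map_one])
  rw [map_mul, hfa, one_mul] at hc ⊢
  have hcop : (Nat.card (zpowers x)).Coprime (Nat.card f.ker) := by
    obtain ⟨j, hj⟩ := IsPGroup.iff_card.1 hk
    rw [Nat.card_zpowers, hj]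
    exact hx.pow_right j
  obtain ⟨c, hc⟩ := isConj_iff.1 hc
  have h2 : c ∈ normalizer (((zpowers x).map f : Subgroup H) : Set H) := by
    have := Finite.of_surjective f hf
    refine mem_normalizer_of_conj_le ?_
    rw [MonoidHom.map_zpowers, conj_zpowers, hc, zpowers_inv]
  rw [Coprime.normalizer_map_of_surjective f hf hcop (Or.inl inferInstance)] at h2
  obtain ⟨g, hg, rfl⟩ := h2
  refine ⟨x, rfl, Nat.coprime_two_right.1 hx, isConj_iff.2 ⟨g, ?_⟩⟩
  have h3 : g * x * g⁻¹ * x ∈ zpowers x ⊓ f.ker := by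
    refine mem_inf.2 ⟨mul_mem ((hg x).1 (mem_zpowers x)) (mem_zpowers x), ?_⟩
    rw [MonoidHom.mem_ker, map_mul, map_mul, map_mul, map_inv, hc, inv_mul_cancel]
  rw [(disjoint_of_coprime_natCard hcop).eq_bot, mem_bot] at h3
  exact eq_inv_of_mul_eq_one_left h3

theorem lift_odd (f : G →* H) (hf : Function.Surjective f) (hk : PiGrp {2}ᶜ f.ker) {y : H}
    (ho : Odd (orderOf y)) (hc : IsConj y y⁻¹) : ∃ x : G, f x = y ∧ Odd (orderOf x) ∧ IsConj x x⁻¹ := by
  have := Finite.of_surjective f hf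
  obtain ⟨c, hc⟩ := isConj_iff.1 hc
  obtain ⟨s₀, rfl⟩ := hf c
  obtain ⟨m, j, hm, hj⟩ := exists_pow_coprime_pow_pow_eq_one (p := 2) s₀
  have hs := Inv.odd_pow_inv hc (Nat.coprime_two_right.1 hm)
  rw [← map_pow] at hs
  set s := s₀ ^ m
  set K := (zpowers y).comap f with hK
  have hKm : K.map f = zpowers y := map_comap_eq_self_of_surjective hf _
  have hKo : PiGrp {2}ᶜ K := PiGrp.of_map (f := f) (by
    rw [hKm, PiElt.zpowers_iff, PiElt, PiNat.p'_iff_coprime]; exact Nat.coprime_two_right.2 ho)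
    (hk.of_le inf_le_right)
  have hsK : s ∈ 𝐍(K) := by
    refine mem_normalizer_of_conj_le (conj_le_iff.2 fun x hx => ?_)
    obtain ⟨i, hi⟩ := mem_zpowers_iff.1 (mem_comap.1 hx)
    rw [hK, mem_comap, map_mul, map_mul, map_inv, ← hi, ← conj_zpow, hs]
    exact zpow_mem (inv_mem (mem_zpowers y)) i
  have hp : IsPGroup 2 (zpowers (s * s)) := pgroup_zpowers (k := j) (by rw [← sq, ← pow_mul, mul_comm, pow_mul, hj, one_pow])
  have e := coprime_map_cent f (zpowers_le.2 (mul_mem hsK hsK)) (hKo.coprime_pgroup hp).symm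
    (Or.inl (pgroup_sol hp))
  obtain ⟨k, hk⟩ := ho
  have hy : y ^ k ∈ K.map f ⊓ 𝐂((zpowers (s * s)).map f) := by
    rw [hKm, MonoidHom.map_zpowers, cent_zpowers, map_mul]
    exact mem_inf.2 ⟨pow_mem (mem_zpowers y) k,
      pow_mem (mem_cent1.2 (Inv.commute_sq_of_inv hs).symm.eq) k⟩
  rw [e] at hy
  obtain ⟨x, ⟨hx1, hx2⟩, hx3⟩ := hy
  have hx4 : s * s * x = x * (s * s) := hx2 _ (mem_zpowers _)
  refine ⟨x⁻¹ * (s * x * s⁻¹), ?_, ?_, isConj_iff.2 ⟨s, ?_⟩⟩
  · rw [map_mul, map_mul, map_mul, map_inv, map_inv, hx3, inv_pow_conj hs, ← mul_inv_rev, ← pow_add,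
      inv_eq_iff_mul_eq_one, ← pow_succ, ← two_mul, ← hk, pow_orderOf_eq_one]
  · exact Nat.coprime_two_right.1 (PiNat.p'_iff_coprime.1
      (hKo.elt (mul_mem (inv_mem hx1) (conj_mem_of_norm hsK hx1))))
  · calc _ = s * x⁻¹ * s⁻¹ * (s * s * x) * s⁻¹ * s⁻¹ := by group
      _ = _ := by rw [hx4]; group

theorem HT.map {T : Subgroup G} (h : HT T) (f : G →* H) (hf : Function.Surjective f)
    (hk : IsPGroup 2 f.ker ∨ PiGrp {2}ᶜ f.ker) : HT (T.map f) := by
  intro y h1 ho hc g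
  obtain ⟨x, rfl, h2, h3⟩ := hk.elim (fun hk => lift_two f hf hk ho hc) fun hk => lift_odd f hf hk ho hc
  obtain ⟨g, rfl⟩ := hf g
  obtain ⟨n, hn, c, hc, rfl⟩ := h x (fun e => h1 (by rw [e, map_one])) h2 h3 g
  exact ⟨f n, map_norm f (zpowers_le.2 hn) (mem_map_of_mem f (mem_zpowers n)), f c,
    mem_cent1.2 (by rw [← map_mul, mem_cent1.1 hc, map_mul]), map_mul f n c⟩
end

theorem solvable_of_HT (n : ℕ) : ∀ (G : Type u) [Group G] [Finite G] (T : Subgroup G),
    Nat.card G = n → HT T → Syl 2 T ⊤ → Group.IsSolvable G := by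
  induction n using Nat.strong_induction_on with
  | _ n ih =>
  intro G _ _ T hn h hT
  have key : ∀ M : Subgroup G, M.Normal → M ≠ ⊥ → IsPGroup 2 M ∨ PiGrp {2}ᶜ M → Group.IsSolvable G := by
    intro M _ h1 hM
    have hs : Group.IsSolvable M := hM.elim pgroup_sol fun hM =>
      Coprime.isSolvable_of_not_two_dvd (PiGrp.p'_iff.1 hM)
    have hf := QuotientGroup.mk'_surjective M
    have : Group.IsSolvable (G ⧸ M) := ih _ (by
        rw [← hn, card_eq_card_quotient_mul_card_subgroup M]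
        exact lt_mul_of_one_lt_right Nat.card_pos ((one_lt_card_iff_ne_bot M).2 h1)) (G ⧸ M) _ rfl
      (h.map _ hf (by rwa [QuotientGroup.ker_mk'])) (by
        have := hT.map (QuotientGroup.mk' M)
        rwa [map_top_of_surjective _ hf] at this)
    exact Group.isSolvable_of_ker_le_range M.subtype (QuotientGroup.mk' M) (by simp)
  by_cases hO : pCore 2 G = ⊥
  swap
  · exact key _ inferInstance hO (Or.inl (Core.pCore_isPGroup 2 G))
  by_cases hT1 : T = ⊥
  · have := hT.eq_bot_iff'.1 hT1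
    rw [card_top] at this
    exact Coprime.isSolvable_of_not_two_dvd this
  obtain ⟨z, hz, hz2⟩ := Inv.exists_involution_mem_of_isPGroup (pgroup_of_le hT.pgroup inf_le_left)
    (center_ne_bot_of_nil hT.nil hT1)
  obtain ⟨w, h1, ho, ⟨a, ha, ha2, hi⟩, hw⟩ := thmA h hT hz (Inv.ord_two_iff.1 hz2).2
    (by rw [hO, mem_bot]; exact (Inv.ord_two_iff.1 hz2).1)
  set K := normalClosure ({a} : Set G) with hK
  have haK : a ∈ K := subset_normalClosure rfl
  have hKn : Nml K ⊤ := Nml.top_iff.2 inferInstance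
  have hwK : w ∈ K := mem_of_sq_mem ho (by
    have := mul_mem (conj_mem_of_norm (hKn.norm (mem_top w)) haK) (inv_mem haK)
    rwa [show w * a * w⁻¹ * a⁻¹ = w * (a * w * a⁻¹)⁻¹ by group, hi, inv_inv] at this)
  have hKw : K ≤ 𝐍(zpowers w) := (closure_le _).2 fun x hx => by
    obtain ⟨b, rfl, hb⟩ := Group.mem_conjugatesOfSet_iff.1 hx
    obtain ⟨g, rfl⟩ := isConj_iff.1 hb
    exact hw _ ha ha2 g
  have : zpowers w ≤ 𝐎({2}ᶜ, K) := pcore_max (by
    rw [PiElt.zpowers_iff, PiElt, PiNat.p'_iff_coprime]; exact Nat.coprime_two_right.2 ho)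
    ⟨zpowers_le.2 hwK, hKw⟩
  exact key _ (Nml.top_iff.1 (hKn.pcore _)) (ne_bot_of_mem (this (mem_zpowers w)) h1)
    (Or.inr (pcore_pi _ _))

end Cfsg.Lib.RCl
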